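import Mathlib.Topology.NoetherianSpace
import Mathlib.Topology.Sober

set_option autoImplicit false

/-! Maximal points of closed subsets of Noetherian sober spaces. -/

namespace K722.GenPts

open TopologicalSpace

universe u

variable {X : Type u} [TopologicalSpace X] [NoetherianSpace X] [QuasiSober X] [T0Space X]
  (Z : Set X) (hZ : IsClosed Z)

include hZ

theorem exists_maximal (z : X) (hz : z ∈ Z) :
    ∃ ξ ∈ Z, ξ ⤳ z ∧ ∀ η ∈ Z, η ⤳ ξ → η = ξ := by
  have : QuasiSober Z := hZ.isClosedEmbedding_subtypeVal.quasiSober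
  let C := irreducibleComponent (⟨z, hz⟩ : Z)
  obtain ⟨ξ, hξ⟩ := QuasiSober.sober (isIrreducible_irreducibleComponent (x := (⟨z, hz⟩ : Z)))
    isClosed_irreducibleComponent
  have hmem : (⟨z, hz⟩ : Z) ∈ closure {ξ} := by
    rw [hξ.def]; exact mem_irreducibleComponent
  refine ⟨ξ, ξ.2, ?_, fun η hη h => ?_⟩
  · exact (specializes_iff_mem_closure.2 hmem).map continuous_subtype_val
  · have h1 : (⟨η, hη⟩ : Z) ⤳ ξ := by
      rw [Topology.IsInducing.subtypeVal.specializes_iff.symm]
      exact h
    have h2 : closure {(⟨η, hη⟩ : Z)} = irreducibleComponent (⟨z, hz⟩ : Z) := by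
      apply eq_irreducibleComponent
      · exact isIrreducible_singleton.closure.isPreirreducible
      · rw [← hξ.def]
        exact h1.closure_subset
    have h3 : ξ ⤳ (⟨η, hη⟩ : Z) := by
      rw [specializes_iff_mem_closure, hξ.def, ← h2]
      exact subset_closure rfl
    exact congrArg Subtype.val (h1.antisymm h3).eq

theorem finite_maximal : {ξ : X | ξ ∈ Z ∧ ∀ η ∈ Z, η ⤳ ξ → η = ξ}.Finite := by
  have : QuasiSober Z := hZ.isClosedEmbedding_subtypeVal.quasiSober
  have hfin := NoetherianSpace.finite_irreducibleComponents (α := Z)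
  have h2 : {ξ : Z | closure {ξ} ∈ irreducibleComponents Z}.Finite := by
    refine Set.Finite.of_finite_image (f := fun ξ : Z => closure {ξ}) (hfin.subset ?_) ?_
    · rintro _ ⟨ξ, hξ, rfl⟩
      exact hξ
    · intro a _ b _ hab
      exact (inseparable_iff_closure_eq.2 hab).eq
  refine (h2.image Subtype.val).subset ?_
  rintro ξ ⟨hξ, hmax⟩
  refine ⟨⟨ξ, hξ⟩, ?_, rfl⟩
  refine ⟨isIrreducible_singleton.closure, fun W hW hle => ?_⟩
  obtain ⟨y, hy⟩ := QuasiSober.sober hW.closure isClosed_closure
  have h3 : y ⤳ ⟨ξ, hξ⟩ := by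
    rw [specializes_iff_mem_closure, hy.def]
    exact subset_closure (hle (subset_closure rfl))
  have h4 : y = ⟨ξ, hξ⟩ := Subtype.ext (hmax y.1 y.2 (h3.map continuous_subtype_val))
  rw [← h4]
  exact subset_closure.trans (le_of_eq hy.def.symm)

end K722.GenPts
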